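import Groth.Agent.PnReg.Pull

/-!
Negative twists of inverse images from an affine base have cohomology only in the top degree.
-/

set_option autoImplicit false
set_option linter.unusedSectionVars false
set_option linter.style.haveILetI false
set_option backward.isDefEq.respectTransparency false
set_option backward.isDefEq.respectTransparency.types false
set_option maxHeartbeats 1000000

universe u

open CategoryTheory CategoryTheory.Limits AlgebraicGeometry TopologicalSpace Opposite
open Groth.Agent.RegKos Groth.Agent.Mumford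

noncomputable section

namespace Groth.Agent.PnNegTw

open Groth.Agent.PnReg (Ot K toIm isIso_toIm)

section Gen

variable {X : Scheme.{u}}

/-- The left term is acyclic when the middle one is, and the right one one degree lower. -/
theorem subsingleton_left {S : ShortComplex X.Modules} (hS : S.ShortExact) (q : ℕ)
    (h₂ : Subsingleton (Coh.HH X S.X₂ (q + 1))) (h₃ : Subsingleton (Coh.HH X S.X₃ q)) :
    Subsingleton (Coh.HH X S.X₁ (q + 1)) := by
  refine subsingleton_of_forall_eq 0 fun x => ?_
  obtain ⟨y, hy⟩ := (CohFinite.map_f_eq_zero_iff (CohFinite.shortExact_toAb hS) q x).1 (h₂.elim _ _)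
  exact hy.symm.trans ((congrArg _ (h₃.elim y 0)).trans (map_zero _))

/-- A submodule of a module without sections has no sections. -/
theorem subsingleton_zero {S : ShortComplex X.Modules} (hS : S.ShortExact) (h₂ : Subsingleton (Coh.HH X S.X₂ 0)) :
    Subsingleton (Coh.HH X S.X₁ 0) := by
  haveI : Mono S.f := hS.mono_f
  have hinj : Function.Injective (S.f.app ⊤) := QC.app_injective_of_mono S.f ⊤
  let e₁ := Sheaf.H.equiv₀ (Coh.toAb S.X₁) (isTerminalTop : IsTerminal (⊤ : X.Opens))
  let e₂ := Sheaf.H.equiv₀ (Coh.toAb S.X₂) (isTerminalTop : IsTerminal (⊤ : X.Opens))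
  haveI : Subsingleton Γ(S.X₂, ⊤) := e₂.symm.toEquiv.subsingleton
  haveI : Subsingleton Γ(S.X₁, ⊤) := hinj.subsingleton
  haveI : Subsingleton ↑((Coh.toAb S.X₁).obj.obj (op (⊤ : X.Opens))) := inferInstanceAs (Subsingleton Γ(S.X₁, ⊤))
  exact e₁.toEquiv.subsingleton

/-- The cohomology of a zero module. -/
theorem subsingleton_of_isZero {M : X.Modules} (hM : IsZero M) (q : ℕ) : Subsingleton (Coh.HH X M q) :=
  CohFinite.subsingleton_of_split M (fun e : Fin 0 => e.elim0) (fun e => e.elim0) (fun e => e.elim0)
    (hM.eq_of_src _ _) q fun e => e.elim0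

theorem isZero_tw {G : X.Modules} (h : IsZero G) (L : X.Modules) : IsZero (CohB1.tensorMod G L) := by
  refine (IsZero.iff_id_eq_zero _).2 ?_
  rw [← CohFinite.tmap_id, h.eq_of_src (𝟙 G) 0]
  exact map_zero (AddMonoidHom.mk' (fun φ : G ⟶ G => CohFinite.tmap φ L) fun a b => CohFinite.tmap_add a b L)

end Gen

variable {R : Type u} [CommRing R] {n : ℕ}

local notation "P" => CohB1.ProjSpace n R

/-- `F(a)`. -/
abbrev tw (F : (CohB1.ProjSpace n R).Modules) (a : ℤ) : (CohB1.ProjSpace n R).Modules :=
  CohB1.tensorMod F (Ot R n a)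

/-- Acyclicity of the Koszul terms. -/
theorem kos_van (F : (CohB1.ProjSpace n R).Modules) (q : ℕ) :
    ∀ (l : List Γ(Ot R n 1, ⊤)) (s : ℕ) (a : ℤ), Subsingleton (Coh.HH P (tw F a) q) →
      Subsingleton (Coh.HH P (tw ((kos (PnReg.eta R n) F l).obj s) (a + s)) q)
  | [], 0, a, h => by rw [Nat.cast_zero, add_zero]; exact h
  | [], s + 1, a, _ => subsingleton_of_isZero (isZero_tw initialIsInitial.isZero _) q
  | b :: l, 0, a, h => kos_van F q l 0 a h
  | b :: l, s + 1, a, h => by
    have h1 := kos_van F q l (s + 1) a h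
    have h2 := kos_van F q l s a h
    refine CohQC.subsingleton_hh_middle
      (CohFinite.shortExact_tmap (CohFinite.isInvertible_twist n R (a + (s + 1 : ℕ)))
        (ShortComplex.Splitting.ofHasBinaryBiproduct ((kos (PnReg.eta R n) F l).obj (s + 1))
          (CohB1.tensorMod ((kos (PnReg.eta R n) F l).obj s) (Ot R n (-1)))).shortExact) q h1 ?_
    exact PnReg.hh_twist_twist _ (-1) (a + (s + 1 : ℕ)) (a + s) (by push_cast; ring) q h2

/-- No terms beyond the length. -/
theorem kos_isZero (F : (CohB1.ProjSpace n R).Modules) :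
    ∀ (l : List Γ(Ot R n 1, ⊤)) (j : ℕ), l.length < j → IsZero ((kos (PnReg.eta R n) F l).obj j)
  | [], 0, h => absurd h (lt_irrefl _)
  | [], _ + 1, _ => initialIsInitial.isZero
  | b :: l, 0, h => absurd h (Nat.not_lt_zero _)
  | b :: l, j + 1, h => (biprod_isZero_iff _ _).2 ⟨kos_isZero F l (j + 1) (by rw [List.length_cons] at h; omega),
      isZero_tw (kos_isZero F l j (by rw [List.length_cons] at h; omega)) _⟩

/-- The top term. -/
theorem kos_top (F : (CohB1.ProjSpace n R).Modules) :
    ∀ l : List Γ(Ot R n 1, ⊤), Nonempty ((kos (PnReg.eta R n) F l).obj l.length ≅ tw F (-(l.length : ℤ)))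
  | [] => by
      obtain ⟨e⟩ := PnReg.nonempty_twistF_zero F
      exact ⟨e.symm⟩
  | b :: l => by
    obtain ⟨e⟩ := kos_top F l
    obtain ⟨e'⟩ := PnReg.nonempty_twistF F (-(l.length : ℤ)) (-1) (-((b :: l).length : ℤ))
      (by rw [List.length_cons]; push_cast; ring)
    exact ⟨(isoZeroBiprod (X := (kos (PnReg.eta R n) F l).obj (l.length + 1))
      (Y := CohB1.tensorMod ((kos (PnReg.eta R n) F l).obj l.length) (Ot R n (-1)))
        (kos_isZero F l _ (Nat.lt_succ_self _))).symm ≪≫
        PicGrp.tensorModIso e (Iso.refl _) ≪≫ e'⟩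

/-- The last differential identifies the last term with its image. -/
theorem nonempty_top_image {X : Scheme.{u}} (E : ChainComplex X.Modules ℕ) (s : ℕ)
    (hex : IsZero (E.homology (s + 1))) (hz : IsZero (E.X (s + 1 + 1))) :
    Nonempty (E.X (s + 1) ≅ Abelian.image (E.d (s + 1) s)) := by
  haveI := isIso_toIm E s hex
  exact ⟨(cokernelIsoOfEq (hz.eq_of_src (E.d (s + 1 + 1) (s + 1)) 0) ≪≫ cokernelZeroIsoTarget).symm ≪≫
    asIso (toIm E s)⟩

/-- Negative twists vanish below the top degree. -/
theorem hh_pull_neg (N : (Spec (CommRingCat.of R)).Modules) (hN : Coh.IsQCoh N) (e : ℤ) (he : e < 0)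
    (q : ℕ) (hq : q < n) :
    Subsingleton (Coh.HH P (tw ((Scheme.Modules.pullback (CohB1.ProjSpace.toSpec n R)).obj N) e) q) := by
  let f := CohB1.ProjSpace.toSpec n R
  let F := (Scheme.Modules.pullback f).obj N
  suffices key : ∀ (d : ℕ) (e : ℤ), e < 0 → -(n : ℤ) - d ≤ e → ∀ (M : (Spec (CommRingCat.of R)).Modules),
      Coh.IsQCoh M → ∀ q < n, Subsingleton (Coh.HH P (tw ((Scheme.Modules.pullback f).obj M) e) q) from
    key (-e).toNat e he (by omega) N hN q hq
  intro d
  induction d with
  | zero =>
    intro e he hle M hM q hq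
    rcases Nat.eq_zero_or_pos q with rfl | h1
    · haveI : Flat f := (PerfGen.flat_lfp_toSpec n R).1
      obtain ⟨ι, π, hπ⟩ := PnReg.exists_free_epi hM
      let F₀ := ∐ fun _ : ι => Coh.structureModule (Spec (CommRingCat.of R))
      have hF₀ : Coh.IsQCoh F₀ :=
        (inferInstance : (SheafOfModules.free.{u} (R := (Spec (CommRingCat.of R)).ringCatSheaf) ι).IsQuasicoherent)
      have hK : Coh.IsQCoh (kernel π) := QC.isQCoh_kernel hF₀ hM π
      let Pf := Scheme.Modules.pullback f
      have hS : (ShortComplex.mk (kernel.ι π) π (kernel.condition π)).ShortExact :=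
        { exact := ShortComplex.exact_kernel π }
      haveI : Mono (Pf.map (kernel.ι π)) := FlatFunLib.mono_pullback_of_flat f (kernel.ι π)
      have hS' : ((ShortComplex.mk (kernel.ι π) π (kernel.condition π)).map Pf).ShortExact :=
        ShortComplex.ShortExact.mk' (ShortComplex.exact_of_g_is_cokernel _
          (CokernelCofork.mapIsColimit _ hS.gIsCokernel Pf)) (inferInstanceAs (Mono (Pf.map (kernel.ι π))))
          (inferInstanceAs (Epi (Pf.map π)))
      refine CohFinite.subsingleton_of_shortExact
        (CohFinite.shortExact_tmap (CohFinite.isInvertible_twist n R e) hS') 0 ?_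
        (PnReg.hh_pull (kernel π) hK e (by omega) (n + 1) 1 (by omega) le_rfl)
      haveI : IsProper f := ProjMor.isProper_toSpec n R
      haveI : CompactSpace P := QuasiCompact.compactSpace_of_compactSpace f
      haveI : QuasiSeparatedSpace P := quasiSeparatedSpace_of_quasiSeparated f
      let G : (Spec (CommRingCat.of R)).Modules ⥤ (CohB1.ProjSpace n R).Modules :=
        Pf ⋙ (DCoh.tensorBi (X := CohB1.ProjSpace n R)).flip.obj (Ot R n e)
      haveI : PreservesColimitsOfSize.{u, u} ((DCoh.tensorBi (X := CohB1.ProjSpace n R)).flip.obj (Ot R n e)) :=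
        ModSiteTensor.preservesColimits_tensorBi_flip_obj (CohB1.ProjSpace n R).sheaf _
      haveI : PreservesColimitsOfSize.{u, u} Pf :=
        (Scheme.Modules.pullbackPushforwardAdjunction f).leftAdjoint_preservesColimits
      refine CohQC.hh_subsingleton_of_iso (PreservesCoproduct.iso G _).symm 0 ?_
      refine PnReg.hh_sigma _ 0 fun _ => ?_
      exact CohQC.hh_subsingleton_of_iso (PicGrp.tensorModIso (DerPerf.pullUnitIso f).symm (Iso.refl _)) 0
        (CohQC.hh_subsingleton_of_iso (TMul.leftUnitIso (Ot R n e)).symm 0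
          (ProjCech.twist_vanish n e 0 (fun h => by omega) (fun h => by omega)))
    · exact PnReg.hh_pull M hM e (by omega) (n + 1) q (by omega) h1
  | succ d ih =>
    intro e he hle M hM q hq
    rcases le_or_gt (-(n : ℤ) - d) e with h | h
    · exact ih e he h M hM q hq
    let G := (Scheme.Modules.pullback f).obj M
    let C := K G
    let E := C.toChain
    let t : ℤ := e + n + 1
    have hex : ∀ s, IsZero (E.homology (s + 1)) := fun s =>
      RegKos.isZero_homology C PnReg.chart PnReg.mem_chart (PnReg.locEx_K G) s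
    have hterm : ∀ (s j : ℕ), 1 ≤ s → s ≤ n → j < n → Subsingleton (Coh.HH P (tw (E.X s) t) j) := by
      intro s j hs hsn hj
      have h1 := kos_van G j (List.ofFn (PnReg.secX (R := R) (n := n))) s (t - s)
        (ih (t - s) (by omega) (by omega) M hM j hj)
      rwa [sub_add_cancel] at h1
    have him : ∀ (j : ℕ), j < n → ∀ s, j + 1 ≤ s → s ≤ n →
        Subsingleton (Coh.HH P (tw (Abelian.image (E.d (s + 1) s)) t) j) := by
      intro j
      induction j with
      | zero =>
        intro hn s hs hsn
        have hS : (ShortComplex.mk (Abelian.image.ι (E.d (s + 1) s)) (cokernel.π (E.d (s + 1) s))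
            (kernel.condition _)).ShortExact :=
          { exact := ShortComplex.exact_of_f_is_kernel _ (kernelIsKernel _) }
        exact subsingleton_zero (CohFinite.shortExact_tmap (CohFinite.isInvertible_twist n R t) hS)
          (hterm s 0 hs hsn hn)
      | succ j ihj =>
        intro hn s hs hsn
        obtain ⟨s', rfl⟩ : ∃ s', s = s' + 1 := ⟨s - 1, by omega⟩
        have hS : (ShortComplex.mk (Abelian.image.ι (E.d (s' + 1 + 1) (s' + 1))) (cokernel.π (E.d (s' + 1 + 1) (s' + 1)))
            (kernel.condition _)).ShortExact :=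
          { exact := ShortComplex.exact_of_f_is_kernel _ (kernelIsKernel _) }
        refine subsingleton_left (CohFinite.shortExact_tmap (CohFinite.isInvertible_twist n R t) hS) j
          (hterm (s' + 1) (j + 1) (by omega) hsn hn) ?_
        haveI := isIso_toIm E s' (hex s')
        exact CohQC.hh_subsingleton_of_iso (PicGrp.tensorModIso (asIso (toIm E s')).symm (Iso.refl _)) j
          (ihj (by omega) s' (by omega) (by omega))
    obtain ⟨e₁⟩ := kos_top G (List.ofFn (PnReg.secX (R := R) (n := n)))
    rw [List.length_ofFn] at e₁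
    obtain ⟨e₂⟩ := nonempty_top_image E n (hex n)
      (kos_isZero G (List.ofFn (PnReg.secX (R := R) (n := n))) (n + 1 + 1) (by rw [List.length_ofFn]; omega))
    have h1 := CohQC.hh_subsingleton_of_iso
      (PicGrp.tensorModIso (e₂.symm ≪≫ (show E.X (n + 1) ≅ _ from e₁)) (Iso.refl _)) q (him q hq n (by omega) le_rfl)
    exact CohQC.hh_subsingleton_of_iso (PnReg.nonempty_twistF G (-((n + 1 : ℕ) : ℤ)) t e (by omega)).some q h1

end Groth.Agent.PnNegTw
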