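import Groth.Agent.PnNegTw.Basic
import Groth.Agent.QC.Closure

/-!
Sums of negative twists of inverse images on `P^n_Y`: direct images only in the top degree.
-/

set_option autoImplicit false
set_option linter.style.haveILetI false
set_option backward.isDefEq.respectTransparency false
set_option backward.isDefEq.respectTransparency.types false
set_option maxHeartbeats 1000000

universe u

open CategoryTheory CategoryTheory.Limits AlgebraicGeometry TopologicalSpace Opposite

noncomputable section

namespace Groth.Agent.PnNegTw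

theorem main (Y : Scheme.{u}) (n : ℕ) {ι : Type u} (G : ι → Y.Modules) (hG : ∀ j, Coh.IsQCoh (G j))
    (m : ι → ℕ) (hm : ∀ j, 0 < m j) (i : ℕ) (hi : i ≠ n) :
    IsZero ((Coh.RpushAb (CohB1.ProjSpaceOver.toBase n Y) i).obj
      (Coh.toAb (∐ fun j => CohB1.tensorMod ((Scheme.Modules.pullback (CohB1.ProjSpaceOver.toBase n Y)).obj (G j))
        (Twist.twistOver n Y (-((m j : ℕ) : ℤ)))))) := by
  set L := fun j => CohB1.tensorMod ((Scheme.Modules.pullback (CohB1.ProjSpaceOver.toBase n Y)).obj (G j))
    (Twist.twistOver n Y (-((m j : ℕ) : ℤ))) with hL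
  have hLq : ∀ j, Coh.IsQCoh (L j) := fun j =>
    TMul.isQCoh_tensor (PicLoc.isInvertible_pullback _ (CohFinite.isInvertible_twist n _ _))
      (hF := QC.isQCoh_pullback _ (hG j))
  refine (PnReg.isZero_iff _ (QC.isQCoh_colimit (Discrete.functor L) fun j => hLq j.as) i).2 fun V c => ?_
  haveI : PreservesColimitsOfSize.{u, u} c.Q :=
    (Scheme.Modules.pullbackPushforwardAdjunction c.q).leftAdjoint_preservesColimits
  let f := CohB1.ProjSpace.toSpec n Γ(Y, V)
  haveI : IsProper f := ProjMor.isProper_toSpec n _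
  haveI : CompactSpace (CohB1.ProjSpace n Γ(Y, V)) := QuasiCompact.compactSpace_of_compactSpace f
  haveI : QuasiSeparatedSpace (CohB1.ProjSpace n Γ(Y, V)) := quasiSeparatedSpace_of_quasiSeparated f
  refine CohQC.hh_subsingleton_of_iso (PreservesCoproduct.iso c.Q L).symm i ?_
  refine PnReg.hh_sigma _ i fun j => ?_
  obtain ⟨e⟩ := TMul.nonempty_pullTensorIso c.q ((Scheme.Modules.pullback (CohB1.ProjSpaceOver.toBase n Y)).obj (G j))
    (Twist.twistOver n Y (-((m j : ℕ) : ℤ)))
  refine CohQC.hh_subsingleton_of_iso e i ?_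
  refine CohQC.hh_subsingleton_of_iso (PicGrp.tensorModIso
    ((Scheme.Modules.pullbackComp f c.aff.fromSpec).app (G j) ≪≫
      (Scheme.Modules.pullbackCongr c.fac.symm).app (G j) ≪≫
      ((Scheme.Modules.pullbackComp c.q (CohB1.ProjSpaceOver.toBase n Y)).app (G j)).symm)
    (c.tw (-((m j : ℕ) : ℤ))).symm) i ?_
  have hN := QC.isQCoh_pullback c.aff.fromSpec (hG j)
  rcases lt_or_gt_of_ne hi with h | h
  · exact hh_pull_neg _ hN _ (by have := hm j; omega) i h
  · exact PnReg.hh_above _ (PnReg.isQCoh_twist (QC.isQCoh_pullback _ hN) _) i h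

end Groth.Agent.PnNegTw
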